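import Cfsg.Agent.CosetEnum.Fi22F.Data

set_option autoImplicit false
set_option maxRecDepth 100000
set_option Elab.async false

/-! Deductions for the coset table on 4 cosets (generated certificate). -/

namespace CfsgLib.CosetEnum.Fi22F

def B0 : ℕ := 0x2f4

theorem tree0 : foldR (tree 3 tb id parN parX) 2 0 0 = B0 := by decide +kernel

theorem goodT0 : enum.Good B0 := enum.good_tree_block 2 0 _ _ enum.good_zero tree0

theorem good0 : enum.Good B0 := goodT0

def D1 : ℕ := 0xff00000000ff00000002020100000101030000000403000000020200000007000000000600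

def B1 : ℕ := 0xfff

theorem step1 : runDed 3 tb id wd 6 8 3 D1 B0 = B1 := by decide +kernel

theorem good1 : enum.Good B1 :=
  enum.good_ded 3 D1 6 8 _ _ rfl rfl good0 step1

end CfsgLib.CosetEnum.Fi22F
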